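import Mathlib
import Groth.Agent.ZeroLocusLib.Main

/-!
# Regular pairs and maps with small kernel and cokernel
-/

set_option autoImplicit false
set_option linter.style.haveILetI false

universe u

open TensorProduct
open scoped Pointwise

namespace CodimDescLib

/-- A pair regular on a module, in elementary form. -/
def RegPair {R : Type*} [CommRing R] (a b : R) (N : Type*) [AddCommGroup N] [Module R N] : Prop :=
  (∀ x : N, a • x = 0 → x = 0) ∧ ∀ x y : N, b • x = a • y → ∃ z : N, x = a • z

theorem RegPair.of_equiv {R : Type*} [CommRing R] {a b : R} {N N' : Type*} [AddCommGroup N] [Module R N]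
    [AddCommGroup N'] [Module R N'] (h : RegPair a b N) (e : N ≃ₗ[R] N') : RegPair a b N' := by
  refine ⟨fun x hx => e.symm.injective ?_, fun x y hxy => ?_⟩
  · rw [map_zero]; exact h.1 _ (by rw [← map_smul, hx, map_zero])
  · obtain ⟨z, hz⟩ := h.2 (e.symm x) (e.symm y) (by rw [← map_smul, ← map_smul, hxy])
    exact ⟨e z, by rw [← map_smul, ← hz, e.apply_symm_apply]⟩

theorem RegPair.pow {R : Type*} [CommRing R] {a b : R} {N : Type*} [AddCommGroup N] [Module R N]
    (h : RegPair a b N) : ∀ (m : ℕ) (x y : N), b ^ m • x = a • y → ∃ z : N, x = a • z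
  | 0, x, y, hxy => ⟨y, by rwa [pow_zero, one_smul] at hxy⟩
  | m + 1, x, y, hxy => by
    rw [pow_succ', mul_smul] at hxy
    obtain ⟨z, hz⟩ := h.2 _ _ hxy
    exact RegPair.pow h m x z hz

theorem regPair_self {R : Type*} [CommRing R] {a b : R} (h : RingTheory.Sequence.IsWeaklyRegular R [a, b]) :
    RegPair a b R := by
  rw [RingTheory.Sequence.isWeaklyRegular_cons_iff, RingTheory.Sequence.isWeaklyRegular_singleton_iff] at h
  refine ⟨fun x hx => h.1 (hx.trans (smul_zero a).symm), fun x y hxy => ?_⟩
  have h2 : b • Submodule.Quotient.mk (p := (a • ⊤ : Submodule R R)) x = b • (0 : QuotSMulTop a R) := by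
    rw [smul_zero, ← Submodule.Quotient.mk_smul, hxy, Submodule.Quotient.mk_eq_zero]
    exact Submodule.smul_mem_pointwise_smul y a ⊤ trivial
  have h3 := (Submodule.Quotient.mk_eq_zero _).1 (h.2 h2)
  rw [Submodule.mem_smul_pointwise_iff_exists] at h3
  obtain ⟨z, -, hz⟩ := h3
  exact ⟨z, hz.symm⟩

/-- Regular pairs are preserved by tensoring with a flat module. -/
theorem RegPair.tensor {R : Type u} [CommRing R] {a b : R} {N : Type u} [AddCommGroup N] [Module R N]
    (h : RegPair a b N) (P : Type u) [AddCommGroup P] [Module R P] [Module.Flat R P] :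
    RegPair a b (P ⊗[R] N) := by
  let la : N →ₗ[R] N := a • LinearMap.id
  have hla : ∀ z : P ⊗[R] N, la.lTensor P z = a • z := fun z => by
    simp only [la, LinearMap.lTensor_smul, LinearMap.lTensor_id, LinearMap.smul_apply, LinearMap.id_apply]
  have hinj : Function.Injective la := (injective_iff_map_eq_zero _).2 fun x hx => h.1 x hx
  refine ⟨fun x hx => Module.Flat.lTensor_preserves_injective_linearMap (M := P) la hinj
    (by rw [hla, hx, map_zero]), fun x y hxy => ?_⟩
  let Q := N ⧸ LinearMap.range la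
  let q : N →ₗ[R] Q := (LinearMap.range la).mkQ
  have hq : Function.Exact la q := LinearMap.exact_map_mkQ_range la
  have hex := lTensor_exact P hq (Submodule.mkQ_surjective _)
  let lb : Q →ₗ[R] Q := b • LinearMap.id
  have hb : Function.Injective lb := by
    refine (injective_iff_map_eq_zero _).2 fun z hz => ?_
    obtain ⟨x₀, rfl⟩ := Submodule.mkQ_surjective _ z
    have h1 : b • x₀ ∈ LinearMap.range la := (Submodule.Quotient.mk_eq_zero _).1 hz
    obtain ⟨y₀, hy₀⟩ := h1
    obtain ⟨z₀, rfl⟩ := h.2 x₀ y₀ hy₀.symm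
    exact (Submodule.Quotient.mk_eq_zero _).2 ⟨z₀, rfl⟩
  have h2 : lb.lTensor P (q.lTensor P x) = 0 := by
    have : lb.lTensor P (q.lTensor P x) = q.lTensor P (b • x) := by
      simp only [lb, LinearMap.lTensor_smul, LinearMap.lTensor_id, LinearMap.smul_apply, LinearMap.id_apply,
        map_smul]
    rw [this, hxy, ← hla]
    exact hex.apply_apply_eq_zero y
  obtain ⟨z, hz⟩ := (hex x).1 (Module.Flat.lTensor_preserves_injective_linearMap (M := P) lb hb
    (h2.trans (map_zero _).symm))
  exact ⟨z, by rw [← hla, hz]⟩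

/-- A map whose kernel and cokernel are killed by powers of a regular pair is bijective. -/
theorem bijective_of_regPair {R : Type*} [CommRing R] {M P : Type*} [AddCommGroup M] [Module R M]
    [AddCommGroup P] [Module R P] (L : M →ₗ[R] P) {a b : R} (hM : RegPair a b M)
    (hP : ∀ x : P, a • x = 0 → x = 0) (hker : ∀ x, L x = 0 → ∃ n : ℕ, a ^ n • x = 0)
    (hca : ∀ e, ∃ n : ℕ, a ^ n • e ∈ LinearMap.range L) (hcb : ∀ e, ∃ n : ℕ, b ^ n • e ∈ LinearMap.range L) :
    Function.Bijective L := by
  have hinj : Function.Injective L := by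
    refine (injective_iff_map_eq_zero _).2 fun x hx => ?_
    obtain ⟨n, hn⟩ := hker x hx
    induction n with
    | zero => simpa using hn
    | succ n ih => rw [pow_succ', mul_smul] at hn; exact ih (hM.1 _ hn)
  refine ⟨hinj, fun e => ?_⟩
  have step : ∀ e' : P, a • e' ∈ LinearMap.range L → e' ∈ LinearMap.range L := by
    intro e' he
    obtain ⟨x, hx⟩ := he
    obtain ⟨m, y, hy⟩ := hcb e'
    have h1 : b ^ m • x = a • y := hinj (by rw [map_smul, map_smul, hx, hy, smul_comm])
    obtain ⟨z, rfl⟩ := hM.pow m x y h1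
    refine ⟨z, ?_⟩
    rw [map_smul] at hx
    exact sub_eq_zero.1 (hP _ (by rw [smul_sub, hx, sub_self]))
  obtain ⟨n, hn⟩ := hca e
  induction n with
  | zero => simpa using hn
  | succ n ih => rw [pow_succ', mul_smul] at hn; exact ih (step _ hn)

section Family

variable {R : Type u} [CommRing R] {J : Type*} (B : J → Type u) [∀ j, CommRing (B j)] [∀ j, Algebra R (B j)]
  (hflat : ∀ j, Module.Flat R (B j))
  (hcov : ∀ p : PrimeSpectrum R, ∃ j, p ∈ Set.range (PrimeSpectrum.comap (algebraMap R (B j))))
  (N : Type u) [AddCommGroup N] [Module R N]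

include hflat hcov

theorem flat_of_family (h : ∀ j, Module.Flat R (B j ⊗[R] N)) : Module.Flat R N := by
  refine Module.Flat.iff_rTensor_preserves_injective_linearMap.2 fun A A' _ _ _ _ f hf => ?_
  refine (injective_iff_map_eq_zero _).2 fun y hy => ?_
  refine Groth.Agent.ZeroLocusLib.eq_zero_of_forall_tensor B hflat hcov y fun j => ?_
  haveI := h j
  let eA := TensorProduct.leftComm R (B j) A N
  let eA' := TensorProduct.leftComm R (B j) A' N
  apply eA.injective
  rw [map_zero]
  refine Module.Flat.rTensor_preserves_injective_linearMap (M := B j ⊗[R] N) f hf ?_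
  rw [map_zero]
  have key : ∀ w : A ⊗[R] N, f.rTensor (B j ⊗[R] N) (eA ((1 : B j) ⊗ₜ w)) =
      eA' ((1 : B j) ⊗ₜ f.rTensor N w) := fun w => by
    induction w using TensorProduct.induction_on with
    | zero => simp
    | tmul a n => simp [eA, eA']
    | add x y hx hy => simp only [TensorProduct.tmul_add, map_add, hx, hy]
  rw [key y, hy, TensorProduct.tmul_zero, map_zero]

theorem finite_of_family [Finite J] (h : ∀ j, Module.Finite (B j) (B j ⊗[R] N)) : Module.Finite R N := by
  classical
  have hs : ∀ j, ∃ S : Finset N, ∀ z : B j ⊗[R] N, z ∈ Submodule.span (B j)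
      ((fun n : N => (1 : B j) ⊗ₜ[R] n) '' (S : Set N)) := fun j => by
    have htop : Submodule.span (B j) (Set.range fun n : N => (1 : B j) ⊗ₜ[R] n) = ⊤ := by
      refine eq_top_iff.2 fun z _ => ?_
      induction z using TensorProduct.induction_on with
      | zero => exact zero_mem _
      | tmul c n =>
        have : c ⊗ₜ[R] n = c • ((1 : B j) ⊗ₜ[R] n) := by rw [TensorProduct.smul_tmul', smul_eq_mul, mul_one]
        exact this ▸ Submodule.smul_mem _ _ (Submodule.subset_span ⟨n, rfl⟩)
      | add x y hx hy => exact add_mem (hx trivial) (hy trivial)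
    have hfg : (Submodule.span (B j) (Set.range fun n : N => (1 : B j) ⊗ₜ[R] n)).FG := htop ▸ Module.Finite.fg_top
    obtain ⟨T, hT, he⟩ := (Submodule.fg_span_iff_fg_span_finset_subset _).1 hfg
    choose n hn using fun t : T => hT t.2
    refine ⟨Finset.univ.image n, fun z => ?_⟩
    have hz : z ∈ Submodule.span (B j) (T : Set (B j ⊗[R] N)) := he ▸ htop.ge trivial
    refine Submodule.span_mono ?_ hz
    intro t ht
    exact ⟨n ⟨t, ht⟩, Finset.mem_coe.2 (Finset.mem_image_of_mem n (Finset.mem_univ _)), hn ⟨t, ht⟩⟩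
  choose S hS using hs
  haveI := Fintype.ofFinite J
  let T : Finset N := Finset.univ.biUnion S
  refine ⟨⟨T, eq_top_iff.2 fun x _ => ?_⟩⟩
  refine (Submodule.Quotient.mk_eq_zero _).1 ?_
  refine Groth.Agent.ZeroLocusLib.eq_zero_of_forall_tensor B hflat hcov _ fun j => ?_
  let q := (Submodule.span R (T : Set N)).mkQ
  have h0 : ∀ z : B j ⊗[R] N, q.baseChange (B j) z = 0 := fun z => by
    refine (Submodule.span_le (p := LinearMap.ker (q.baseChange (B j)))).2 ?_ (hS j z)
    rintro _ ⟨n, hn, rfl⟩
    show q.baseChange (B j) ((1 : B j) ⊗ₜ[R] n) = 0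
    rw [LinearMap.baseChange_tmul, show q n = 0 from (Submodule.Quotient.mk_eq_zero _).2
      (Submodule.subset_span (Finset.mem_biUnion.2 ⟨j, Finset.mem_univ _, hn⟩)), TensorProduct.tmul_zero]
  exact h0 ((1 : B j) ⊗ₜ[R] x)

end Family

end CodimDescLib
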