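import Groth.Agent.CodimDescLib.Sections
import Groth.Agent.S2ExtLib.Scheme

/-!
# Sections over a preimage generate the sections over affine pieces when the bad set has depth two
-/

set_option autoImplicit false
set_option linter.style.haveILetI false
set_option linter.unusedSectionVars false
set_option backward.isDefEq.respectTransparency.types false
universe u

open CategoryTheory CategoryTheory.Limits AlgebraicGeometry TopologicalSpace Opposite TensorProduct
open ProjFormLib (res ger IsFrame)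
open LeffEt (HasFrame res_res res_rfl res_smul res_sum res_add res_zero)

noncomputable section

namespace CodimDescLib

variable {X S : Scheme.{u}} (f : X ⟶ S) (E : X.Modules)

/-- Every point with no framed neighbourhood has depth two. -/
def BadDepth : Prop :=
  ∀ s : S, (∀ O : S.Opens, s ∈ O → ¬ HasFrame E (f ⁻¹ᵁ O)) → (2 : ℕ∞) ≤ LocCoh.depth (S.presheaf.stalk s) (S.presheaf.stalk s)

variable {f E} [IsLocallyNoetherian S] {W : S.Opens} (hW : IsAffineOpen W)

include hW in
theorem exists_pair (hb : BadDepth f E) : ∃ a b : Γ(S, W), RingTheory.Sequence.IsWeaklyRegular Γ(S, W) [a, b] ∧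
    a ∈ Ideal.span {c : Γ(S, W) | HasFrame E (f ⁻¹ᵁ S.basicOpen c)} ∧
    b ∈ Ideal.span {c : Γ(S, W) | HasFrame E (f ⁻¹ᵁ S.basicOpen c)} := by
  haveI : IsNoetherianRing Γ(S, W) := IsLocallyNoetherian.component_noetherian ⟨W, hW⟩
  obtain ⟨a, b, ha, hb', hr⟩ := S2ExtLib.exists_regular_pair
    (Ideal.span {c : Γ(S, W) | HasFrame E (f ⁻¹ᵁ S.basicOpen c)}) fun p hp => by
    have hpW : hW.fromSpec p ∈ W := hW.range_fromSpec.le ⟨p, rfl⟩
    letI := S.presheaf.algebra_section_stalk ⟨hW.fromSpec p, hpW⟩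
    haveI : IsLocalization.AtPrime (S.presheaf.stalk (hW.fromSpec p)) p.asIdeal := hW.isLocalization_stalk' p hpW
    rw [DepthLib.depth_congr_ringEquiv (IsLocalization.algEquiv p.asIdeal.primeCompl
      (Localization.AtPrime p.asIdeal) (S.presheaf.stalk (hW.fromSpec p))).toRingEquiv]
    refine hb _ fun O hpO hfr => ?_
    obtain ⟨c, hc, hpc⟩ := hW.exists_basicOpen_le (V := O) ⟨_, hpO⟩ hpW
    have hmem : p ∈ hW.fromSpec ⁻¹ᵁ S.basicOpen c := hpc
    rw [hW.fromSpec_preimage_basicOpen] at hmem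
    exact hmem (hp (Ideal.subset_span (hfr.mono (f.preimage_mono hc))))
  exact ⟨a, b, hr, ha, hb'⟩

variable [QuasiCompact f] [QuasiSeparated f] [Flat f] [Coh.IsQCoh E] (hE : FlatMod.IsFinLocFree E)

include hW hE in
/-- The sections over an affine piece are flat over the base. -/
theorem regPair_piece {a b : Γ(S, W)} (hr : RingTheory.Sequence.IsWeaklyRegular Γ(S, W) [a, b])
    {V : X.Opens} (hV : IsAffineOpen V) (hle : V ≤ f ⁻¹ᵁ W) :
    letI := Module.compHom Γ(E, V) (f.appLE W V hle).hom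
    Module.Flat Γ(S, W) Γ(E, V) ∧ RegPair a b Γ(E, V) := by
  letI := Module.compHom Γ(E, V) (f.appLE W V hle).hom
  letI : Algebra Γ(S, W) Γ(X, V) := (f.appLE W V hle).hom.toAlgebra
  haveI : IsScalarTower Γ(S, W) Γ(X, V) Γ(E, V) := IsScalarTower.of_algebraMap_smul fun _ _ => rfl
  haveI : Module.Flat Γ(S, W) Γ(X, V) := RingHom.flat_algebraMap_iff.1 (f.flat_appLE hW hV hle)
  haveI : Module.Flat Γ(X, V) Γ(E, V) := CohBCLib.flat_sections_of_isFinLocFree E hE hV
  haveI : Module.Flat Γ(S, W) Γ(E, V) := Module.Flat.trans Γ(S, W) Γ(X, V) _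
  exact ⟨inferInstance, ((regPair_self hr).tensor Γ(E, V)).of_equiv (TensorProduct.rid Γ(S, W) Γ(E, V))⟩

include hW hE in
/-- The first element of a regular pair is regular on the sections over all opens in the preimage. -/
theorem injective_open {a b : Γ(S, W)} (hr : RingTheory.Sequence.IsWeaklyRegular Γ(S, W) [a, b])
    {O : X.Opens} (hle : O ≤ f ⁻¹ᵁ W) (t : Γ(E, O)) (ht : f.appLE W O hle a • t = 0) : t = 0 := by
  choose B hB hxB hBle using fun v : O => exists_isAffineOpen_mem_and_subset (X := X) (U := O) v.2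
  refine ext_cover E B hBle (fun v hv => Opens.mem_iSup.2 ⟨⟨v, hv⟩, hxB ⟨v, hv⟩⟩) t 0 fun v => ?_
  rw [res_zero]
  letI := Module.compHom Γ(E, B v) (f.appLE W (B v) ((hBle v).trans hle)).hom
  refine (regPair_piece hW hE hr (hB v) ((hBle v).trans hle)).2.1 _ ?_
  show f.appLE W (B v) _ a • res E (hBle v) t = 0
  have h := congrArg (res E (hBle v)) ht
  rw [res_zero, res_smul] at h
  rwa [← rX_appLE hle (hBle v) a]

include hW hE in
/-- A regular pair on the base is regular on the sections over the preimage. -/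
theorem regPair_push {a b : Γ(S, W)} (hr : RingTheory.Sequence.IsWeaklyRegular Γ(S, W) [a, b]) :
    RegPair a b Γ(G f E, W) := by
  have happ : ∀ r, f.app W r = f.appLE W (f ⁻¹ᵁ W) le_rfl r := fun r => by rw [Scheme.Hom.app_eq_appLE]
  refine ⟨fun n hn => injective_open hW hE hr le_rfl (show Γ(E, f ⁻¹ᵁ W) from n) ?_, fun x y hxy => ?_⟩
  · rw [← happ]; exact hn
  choose B hB hxB hBle using fun v : (f ⁻¹ᵁ W : X.Opens) =>
    exists_isAffineOpen_mem_and_subset (X := X) (U := f ⁻¹ᵁ W) v.2
  have hcov : f ⁻¹ᵁ W ≤ iSup B := fun v hv => Opens.mem_iSup.2 ⟨⟨v, hv⟩, hxB ⟨v, hv⟩⟩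
  have hz : ∀ v, ∃ z : Γ(E, B v), res E (hBle v) (show Γ(E, f ⁻¹ᵁ W) from x) = f.appLE W (B v) (hBle v) a • z := by
    intro v
    letI := Module.compHom Γ(E, B v) (f.appLE W (B v) (hBle v)).hom
    refine (regPair_piece hW hE hr (hB v) (hBle v)).2.2 _ (res E (hBle v) (show Γ(E, f ⁻¹ᵁ W) from y)) ?_
    exact ((rho (f := f) (E := E) W (hBle v)).map_smul b x).symm.trans
      ((congrArg (rho (f := f) (E := E) W (hBle v)) hxy).trans ((rho (f := f) (E := E) W (hBle v)).map_smul a y))
  choose z hz using hz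
  obtain ⟨t, ht⟩ := glue E B hBle hcov z fun i j => by
    refine sub_eq_zero.1 (injective_open hW hE hr (inf_le_left.trans (hBle i)) _ ?_)
    rw [smul_sub, sub_eq_zero]
    have hi := congrArg (res E (inf_le_left : B i ⊓ B j ≤ B i)) (hz i)
    have hj := congrArg (res E (inf_le_right : B i ⊓ B j ≤ B j)) (hz j)
    rw [res_res, res_smul] at hi hj
    rw [← rX_appLE (hBle i) inf_le_left a]
    refine hi.symm.trans (hj.trans ?_)
    exact congrArg (· • _) ((rX_appLE (hBle j) inf_le_right a).trans (rX_appLE (hBle i) inf_le_left a).symm)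
  refine ⟨(show Γ(G f E, W) from t), ?_⟩
  refine ext_cover E B hBle hcov (show Γ(E, f ⁻¹ᵁ W) from x) (f.app W a • t) fun v => ?_
  rw [hz v, res_smul, ht v]
  rfl

variable (hO : ∀ U : S.Opens, Function.Bijective (f.app U).hom)

include hW hE hO in
/-- **Base change**: the sections over the preimage generate freely the sections over each affine piece. -/
theorem bijective_piece (hb : BadDepth f E) {V : X.Opens} (hV : IsAffineOpen V) (hle : V ≤ f ⁻¹ᵁ W) :
    letI := Module.compHom Γ(E, V) (f.appLE W V hle).hom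
    letI : Algebra Γ(S, W) Γ(X, V) := (f.appLE W V hle).hom.toAlgebra
    haveI : IsScalarTower Γ(S, W) Γ(X, V) Γ(E, V) := IsScalarTower.of_algebraMap_smul fun _ _ => rfl
    Function.Bijective ((rho (f := f) (E := E) W hle).liftBaseChange Γ(X, V)) := by
  letI := Module.compHom Γ(E, V) (f.appLE W V hle).hom
  letI : Algebra Γ(S, W) Γ(X, V) := (f.appLE W V hle).hom.toAlgebra
  haveI : IsScalarTower Γ(S, W) Γ(X, V) Γ(E, V) := IsScalarTower.of_algebraMap_smul fun _ _ => rfl
  haveI : Module.Flat Γ(S, W) Γ(X, V) := RingHom.flat_algebraMap_iff.1 (f.flat_appLE hW hV hle)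
  let L := ((rho (f := f) (E := E) W hle).liftBaseChange Γ(X, V)).restrictScalars Γ(S, W)
  obtain ⟨a, b, hr, ha, hb'⟩ := exists_pair hW hb
  have hker : ∀ x, L x = 0 → Ideal.span {c : Γ(S, W) | HasFrame E (f ⁻¹ᵁ S.basicOpen c)} ≤
      (Ideal.torsionOf Γ(S, W) _ x).radical := by
    intro x hx
    refine Ideal.span_le.2 fun c hc => ?_
    obtain ⟨r, g, m, n, hg, hn, hgen⟩ := exists_lifts hO hW c hc
    have hsp : ∀ x' : Γ(X, V) ⊗[Γ(S, W)] Γ(G f E, W), ∃ (K : ℕ) (β : Fin r → Γ(X, V)),
        c ^ K • x' = ∑ i, β i ⊗ₜ[Γ(S, W)] n i := by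
      intro x'
      induction x' using TensorProduct.induction_on with
      | zero => exact ⟨0, fun _ => 0, by simp only [smul_zero, TensorProduct.zero_tmul, Finset.sum_const_zero]⟩
      | tmul v z =>
        obtain ⟨K, q, hq⟩ := hgen z
        refine ⟨K, fun i => q i • v, ?_⟩
        rw [← TensorProduct.tmul_smul, hq, TensorProduct.tmul_sum]
        exact Finset.sum_congr rfl fun i _ => (TensorProduct.smul_tmul _ _ _).symm
      | add u w hu hw =>
        obtain ⟨K, β, hβ⟩ := hu
        obtain ⟨K', β', hβ'⟩ := hw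
        refine ⟨K + K', fun i => c ^ K' • β i + c ^ K • β' i, ?_⟩
        simp only [TensorProduct.add_tmul, ← TensorProduct.smul_tmul', Finset.sum_add_distrib, ← Finset.smul_sum,
          ← hβ, ← hβ', smul_smul, smul_add, ← pow_add, add_comm K K']
    obtain ⟨K, β, hβ⟩ := hsp x
    let T := V ⊓ f ⁻¹ᵁ S.basicOpen c
    let cV : Γ(X, V) := f.appLE W V hle c
    have hT : T = V ⊓ X.basicOpen cV := inf_preimage_eq c hle
    have h0 : ∑ i, β i • res E hle (show Γ(E, f ⁻¹ᵁ W) from n i) = 0 := by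
      have := congrArg L hβ
      rw [map_smul, hx, smul_zero, map_sum] at this
      refine Eq.trans (Finset.sum_congr rfl fun i _ => ?_) this.symm
      exact (LinearMap.liftBaseChange_tmul Γ(X, V) (rho (f := f) (E := E) W hle) (β i) (n i)).symm
    have hnT : ∀ i, res E ((inf_le_left : T ≤ V).trans hle) (show Γ(E, f ⁻¹ᵁ W) from n i) =
        (rX (inf_le_left : T ≤ V) cV) ^ m • res E (inf_le_right : T ≤ _) (g i) := fun i => by
      rw [← res_res (f.preimage_mono (S.basicOpen_le c)) inf_le_right, hn, res_smul, map_pow]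
      congr 2
      show rX _ (rX _ (f.app W c)) = rX _ (rX hle (f.app W c))
      rw [rX_rX, rX_rX]
    have hβ0 : ∀ i, rX (inf_le_left : T ≤ V) (β i) = 0 := by
      have h1 := congrArg (res E (inf_le_left : T ≤ V)) h0
      rw [res_zero, res_sum] at h1
      have h2 : Fintype.linearCombination Γ(X, T) (fun i => res E (inf_le_right : T ≤ _) (g i))
          (fun i => rX (inf_le_left : T ≤ V) (β i) * (rX (inf_le_left : T ≤ V) cV) ^ m) = 0 := by
        rw [Fintype.linearCombination_apply]
        refine Eq.trans (Finset.sum_congr rfl fun i _ => ?_) h1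
        rw [res_smul, res_res, hnT, smul_smul]
      intro i
      have h3 := congrFun ((injective_iff_map_eq_zero _).1
        (LeffEt.bijective_linearCombination (hg.res (inf_le_right : T ≤ _))).1 _ h2) i
      exact ((isUnit_rX cV inf_le_left (hT.le.trans inf_le_right)).pow m).mul_left_eq_zero.1 h3
    choose l hl using fun i => zero_fun hV.isCompact cV hT inf_le_left (β i) (hβ0 i)
    let l₀ := Finset.univ.sup l
    refine ⟨l₀ + K, (Ideal.mem_torsionOf_iff _ _).2 ?_⟩
    rw [pow_add, mul_smul, hβ, Finset.smul_sum]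
    refine Finset.sum_eq_zero fun i _ => ?_
    rw [TensorProduct.smul_tmul', show c ^ l₀ • β i = (cV ^ (l₀ - l i)) * (cV ^ l i * β i) by
      rw [Algebra.smul_def, map_pow, ← mul_assoc, ← pow_add,
        Nat.sub_add_cancel (Finset.le_sup (f := l) (Finset.mem_univ i))]
      rfl, hl, mul_zero, TensorProduct.zero_tmul]
  have hcok : ∀ e : Γ(E, V), Ideal.span {c : Γ(S, W) | HasFrame E (f ⁻¹ᵁ S.basicOpen c)} ≤
      Ideal.radical (Submodule.comap (LinearMap.toSpanSingleton Γ(S, W) _ e) (LinearMap.range L)) := by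
    intro e
    refine Ideal.span_le.2 fun c hc => ?_
    obtain ⟨r, g, m, n, hg, hn, -⟩ := exists_lifts hO hW c hc
    let T := V ⊓ f ⁻¹ᵁ S.basicOpen c
    let cV : Γ(X, V) := f.appLE W V hle c
    have hT : T = V ⊓ X.basicOpen cV := inf_preimage_eq c hle
    obtain ⟨o, ho⟩ := (LeffEt.bijective_linearCombination (hg.res (inf_le_right : T ≤ _))).2
      (res E (inf_le_left : T ≤ V) e)
    choose k β hβ using fun i => extend_fun hV.isCompact hV.isQuasiSeparated cV hT inf_le_left (o i)
    let k₀ := Finset.univ.sup k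
    let w : Γ(X, V) ⊗[Γ(S, W)] Γ(G f E, W) := ∑ i, (cV ^ (k₀ - k i) * β i) ⊗ₜ[Γ(S, W)] n i
    have hLw : L w = ∑ i, (cV ^ (k₀ - k i) * β i) • res E hle (show Γ(E, f ⁻¹ᵁ W) from n i) := by
      rw [map_sum]
      exact Finset.sum_congr rfl fun i _ => LinearMap.liftBaseChange_tmul _ _ _ _
    have h0 : res E (inf_le_left : T ≤ V) (cV ^ (k₀ + m) • e - L w) = 0 := by
      rw [res_sub, res_smul, hLw, res_sum, ← ho, Fintype.linearCombination_apply, Finset.smul_sum, sub_eq_zero]
      refine Finset.sum_congr rfl fun i _ => ?_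
      have hnT : res E ((inf_le_left : T ≤ V).trans hle) (show Γ(E, f ⁻¹ᵁ W) from n i) =
          (rX (inf_le_left : T ≤ V) cV) ^ m • res E (inf_le_right : T ≤ _) (g i) := by
        rw [← res_res (f.preimage_mono (S.basicOpen_le c)) inf_le_right, hn, res_smul, map_pow]
        congr 2
        show rX _ (rX _ (f.app W c)) = rX _ (rX hle (f.app W c))
        rw [rX_rX, rX_rX]
      rw [res_smul, res_res, hnT, smul_smul, smul_smul, map_mul, map_pow, map_pow]
      congr 1
      refine Eq.trans ?_ (congrArg (· * _) (congrArg (_ * ·) (hβ i).symm))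
      rw [← mul_assoc, ← pow_add, Nat.sub_add_cancel (Finset.le_sup (f := k) (Finset.mem_univ i)), pow_add]
      simp only [k₀]
      ring
    obtain ⟨l, hl⟩ := zero_res E hV.isCompact cV hT inf_le_left _ h0
    refine ⟨l + (k₀ + m), ?_⟩
    rw [Submodule.mem_comap, LinearMap.toSpanSingleton_apply]
    refine ⟨c ^ l • w, ?_⟩
    rw [map_smul, pow_add, mul_smul]
    rw [smul_sub, sub_eq_zero] at hl
    show f.appLE W V hle (c ^ l) • L w = f.appLE W V hle (c ^ l) • f.appLE W V hle (c ^ (k₀ + m)) • e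
    simp only [map_pow]
    exact hl.symm
  refine bijective_of_regPair L ((regPair_push hW hE hr).tensor Γ(X, V)) (regPair_piece hW hE hr hV hle).2.1
    (fun x hx => ?_) (fun e => ?_) (fun e => ?_)
  · obtain ⟨k, hk⟩ := hker x hx ha
    exact ⟨k, (Ideal.mem_torsionOf_iff _ _).1 hk⟩
  · exact hcok e ha
  · exact hcok e hb'

end CodimDescLib

end
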