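import Groth.Agent.CodimDescLib.Sections
import Groth.Agent.RpushLib.HBase
import Groth.Agent.CubeLib.Glue
import Groth.Agent.CohCmpLib.FrameTools
import Groth.Agent.DetDegLib.Frame
import Groth.Agent.SteinLib.App
import Groth.Agent.LeffEtLib.Restrict

/-!
# A frame over the local scheme spreads to a neighbourhood
-/

set_option autoImplicit false
set_option linter.style.haveILetI false
set_option linter.unusedSectionVars false
set_option backward.isDefEq.respectTransparency.types false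
universe u

open CategoryTheory CategoryTheory.Limits AlgebraicGeometry TopologicalSpace Opposite TensorProduct
open ProjFormLib (res ger IsFrame ger_res ger_smul)
open LeffEt (HasFrame res_res res_rfl res_smul res_sum res_add res_zero)
open KFlatLib (pb puSec puSecLE)

noncomputable section

namespace CodimDescLib

variable {X S : Scheme.{u}} {f : X ⟶ S} {E : X.Modules} [Coh.IsQCoh E] {s : S} {W : S.Opens}
  (hW : IsAffineOpen W) (hsW : s ∈ W)

include hsW in
theorem top_le_preimage : (⊤ : (Spec (S.presheaf.stalk s)).Opens) ≤ S.fromSpecStalk s ⁻¹ᵁ W := fun z _ => by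
  have := Set.mem_range_self (f := S.fromSpecStalk s) z
  rw [Scheme.range_fromSpecStalk] at this
  exact this.mem_open W.2 hsW

include hW hsW in
/-- Sections over the local piece come from sections near `s`. -/
theorem local_piece {V : X.Opens} (hV : IsAffineOpen V) (hle : V ≤ f ⁻¹ᵁ W) :
    let p := pullback.fst f (S.fromSpecStalk s)
    let U := p ⁻¹ᵁ V ⊓ pullback.snd f (S.fromSpecStalk s) ⁻¹ᵁ ⊤
    (∀ y : Γ(pb p E, U), ∃ t : Γ(S, W), s ∈ S.basicOpen t ∧ ∃ m : Γ(E, V),
        puSecLE p E inf_le_left m = p.appLE V U inf_le_left (f.appLE W V hle t) • y) ∧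
      ∀ m : Γ(E, V), puSecLE p E (inf_le_left : U ≤ _) m = 0 →
        ∃ t : Γ(S, W), s ∈ S.basicOpen t ∧ f.appLE W V hle t • m = 0 := by
  intro p U
  let T := S.fromSpecStalk s
  let q := pullback.snd f T
  have H : IsPullback p q f T := IsPullback.of_hasPullback f T
  have hg := top_le_preimage hsW
  let P := hW.primeIdealOf ⟨s, hsW⟩
  let A : Type u := Γ(Spec (S.presheaf.stalk s), ⊤)
  letI : Algebra Γ(S, W) (S.presheaf.stalk s) := (S.presheaf.germ W s hsW).hom.toAlgebra
  haveI : IsLocalization.AtPrime (S.presheaf.stalk s) P.asIdeal := hW.isLocalization_stalk ⟨s, hsW⟩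
  letI : Algebra Γ(S, W) A := (T.appLE W ⊤ hg).hom.toAlgebra
  have hTapp : T.appLE W ⊤ hg = S.presheaf.germ W s hsW ≫ (Scheme.ΓSpecIso (S.presheaf.stalk s)).inv := by
    show T.app W ≫ _ = _
    rw [Scheme.fromSpecStalk_app hsW, Category.assoc, Category.assoc]
    congr 1
  haveI : IsLocalization P.asIdeal.primeCompl A :=
    IsLocalization.isLocalization_of_algEquiv P.asIdeal.primeCompl
      (AlgEquiv.ofRingEquiv (R := Γ(S, W)) (A₁ := S.presheaf.stalk s) (A₂ := A)
        (f := (Scheme.ΓSpecIso (S.presheaf.stalk s)).commRingCatIsoToRingEquiv.symm)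
        (fun r => congr($(hTapp.symm) r)))
  have hPmem : ∀ t : Γ(S, W), t ∈ P.asIdeal.primeCompl → s ∈ S.basicOpen t := fun t ht => by
    rw [S.mem_basicOpen t s hsW]
    exact IsLocalization.map_units (S.presheaf.stalk s) (⟨t, ht⟩ : P.asIdeal.primeCompl)
  have hU : IsAffineOpen U := RpushLib.isAffineOpen_fibre H hW (isAffineOpen_top _) hg hV hle
  haveI : Coh.IsQCoh (pb p E) := KFlatLib.isQCoh_pullback p E
  let ψ : A →+* Γ(pullback f T, U) := (q.appLE ⊤ U inf_le_right).hom
  let φ : Γ(S, W) →+* Γ(X, V) := (f.appLE W V hle).hom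
  have hsq := RpushLib.isPushout_sections H hW (isAffineOpen_top _) hg hV hle
  have hc : ∀ r, p.appLE V U inf_le_left (φ r) = ψ (algebraMap Γ(S, W) A r) := fun r => congr($(hsq.w) r)
  have hb := RpushLib.bijective_secMap₀_of_isPushout (R := Γ(S, W)) (B := A) p hV φ hU ψ inf_le_left hc hsq E
  letI : Module Γ(S, W) Γ(E, V) := Module.compHom _ φ
  letI : Module A Γ(pb p E, U) := Module.compHom _ ψ
  letI : Module Γ(S, W) Γ(pb p E, U) := Module.compHom _ (algebraMap Γ(S, W) A)
  haveI : IsScalarTower Γ(S, W) A Γ(pb p E, U) := IsScalarTower.of_algebraMap_smul fun _ _ => rfl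
  let L : Γ(E, V) →ₗ[Γ(S, W)] Γ(pb p E, U) :=
    { toFun := puSecLE p E inf_le_left
      map_add' := map_add _
      map_smul' := fun r m => (KFlatLib.puSecLE_smul p E inf_le_left (φ r) m).trans
        (congrArg (· • puSecLE p E inf_le_left m) (hc r)) }
  have hbase : IsBaseChange A L := by
    have h1 : ⇑(L.liftBaseChange A) = ⇑(RpushLib.extSL (RpushLib.secMap₀ (σ := algebraMap Γ(S, W) A) p φ ψ
        inf_le_left hc ((Scheme.Modules.pullbackPushforwardAdjunction p).unit.app E))) := by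
      funext z
      induction z using TensorProduct.induction_on with
      | zero => exact (map_zero _).trans (map_zero _).symm
      | tmul a m => exact (LinearMap.liftBaseChange_tmul A L a m).trans (RpushLib.extSL_tmul (RpushLib.secMap₀ (σ := algebraMap Γ(S, W) A) p φ ψ
          inf_le_left hc ((Scheme.Modules.pullbackPushforwardAdjunction p).unit.app E)) a m).symm
      | add x y hx hy => exact (map_add _ _ _).trans ((congr_arg₂ (· + ·) hx hy).trans (map_add _ _ _).symm)
    exact IsBaseChange.of_equiv (LinearEquiv.ofBijective (L.liftBaseChange A) (h1 ▸ hb)) fun m =>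
      (LinearMap.liftBaseChange_tmul A L 1 m).trans (one_smul _ _)
  haveI : IsLocalizedModule P.asIdeal.primeCompl L := (isLocalizedModule_iff_isBaseChange _ A L).2 hbase
  refine ⟨fun y => ?_, fun m hm => ?_⟩
  · obtain ⟨⟨m, t⟩, hmt⟩ := IsLocalizedModule.surj P.asIdeal.primeCompl L y
    exact ⟨t.1, hPmem _ t.2, m, hmt.symm.trans (congrArg (· • y) (hc t.1).symm)⟩
  · obtain ⟨t, ht⟩ := (IsLocalizedModule.eq_zero_iff P.asIdeal.primeCompl L).1 hm
    exact ⟨t.1, hPmem _ t.2, ht⟩

theorem res_pu {P : Scheme.{u}} (g : P ⟶ X) {U : X.Opens} {V V' : P.Opens} (h : V ≤ g ⁻¹ᵁ U) (hV : V' ≤ V)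
    (m : Γ(E, U)) : res (pb g E) hV (puSecLE g E h m) = puSecLE g E (hV.trans h) m :=
  CubeLib.res_puSecLE g E h hV m

theorem pu_res {P : Scheme.{u}} (g : P ⟶ X) {U U' : X.Opens} (hU : U' ≤ U) {V : P.Opens} (h : V ≤ g ⁻¹ᵁ U')
    (m : Γ(E, U)) : puSecLE g E h (res E hU m) = puSecLE g E (h.trans (g.preimage_mono hU)) m :=
  CubeLib.puSecLE_res g E hU h m

theorem mem_basicOpen_prod {ι : Type*} (A : Finset ι) (t : ι → Γ(S, W)) (hsW : s ∈ W)
    (h : ∀ i ∈ A, s ∈ S.basicOpen (t i)) : s ∈ S.basicOpen (∏ i ∈ A, t i) := by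
  rw [S.mem_basicOpen _ s hsW, map_prod]
  exact IsUnit.prod_iff.2 fun i hi => (S.mem_basicOpen _ s hsW).1 (h i hi)

include hW hsW in
/-- A section vanishing on the local piece is killed near `s`. -/
theorem zero_near {O : X.Opens} (hle : O ≤ f ⁻¹ᵁ W) (hOc : IsCompact (O : Set X)) (m : Γ(E, O))
    (hm : ∀ (U : (pullback f (S.fromSpecStalk s)).Opens) (h : U ≤ pullback.fst f (S.fromSpecStalk s) ⁻¹ᵁ O),
      puSecLE (pullback.fst f (S.fromSpecStalk s)) E h m = 0) :
    ∃ t : Γ(S, W), s ∈ S.basicOpen t ∧ f.appLE W O hle t • m = 0 := by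
  classical
  choose B hB hxB hBle using fun v : O => exists_isAffineOpen_mem_and_subset (X := X) (U := O) v.2
  obtain ⟨cv, hcv⟩ := hOc.elim_finite_subcover (fun v => (B v : Set X)) (fun v => (B v).2)
    (fun v hv => Set.mem_iUnion.2 ⟨⟨v, hv⟩, hxB ⟨v, hv⟩⟩)
  have h1 : ∀ v : O, ∃ t : Γ(S, W), s ∈ S.basicOpen t ∧ f.appLE W (B v) ((hBle v).trans hle) t • res E (hBle v) m = 0 :=
    fun v => (local_piece hW hsW (hB v) ((hBle v).trans hle)).2 _
      ((pu_res _ (hBle v) _ m).trans (hm _ _))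
  choose t ht htm using h1
  refine ⟨∏ v ∈ cv, t v, mem_basicOpen_prod cv t hsW fun v _ => ht v, ?_⟩
  refine ext_cover E (fun v : cv => B v.1) (fun v => hBle v.1) (fun x hx => ?_) _ 0 fun v => ?_
  · obtain ⟨v, hv, hxv⟩ := Set.mem_iUnion₂.1 (hcv hx)
    exact Opens.mem_iSup.2 ⟨⟨v, hv⟩, hxv⟩
  · rw [res_zero, res_smul, ← Finset.mul_prod_erase cv t v.2, map_mul, map_mul, mul_comm, mul_smul]
    refine Eq.trans (congrArg (_ • ·) ?_) (smul_zero _)
    exact (congrArg (· • res E (hBle v.1) m) (rX_appLE hle (hBle v.1) (t v.1))).trans (htm v.1)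

variable [IsProper f] (hE : FlatMod.IsFinLocFree E)

include hE in
/-- The locus where given sections form a frame is open. -/
theorem exists_open_frame {O : X.Opens} {r : ℕ} (g : Fin r → Γ(E, O)) :
    ∃ F : X.Opens, F ≤ O ∧ ∀ x, x ∈ F ↔ ∃ hx : x ∈ O, DetDegLib.FrameAt E g hx := by
  refine ⟨⟨{x | ∃ hx : x ∈ O, DetDegLib.FrameAt E g hx}, isOpen_iff_forall_mem_open.2 ?_⟩, fun x hx => hx.1,
    fun x => Iff.rfl⟩
  rintro x ⟨hx, hg⟩
  obtain ⟨U, n, b, hxU, hb⟩ := ProjFormLib.exists_frame hE x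
  have hgb : Function.Bijective (Fintype.linearCombination (X.presheaf.stalk x) fun i => ger E x hx (g i)) :=
    (congrArg Function.Bijective (funext fun c => Fintype.linearCombination_apply _ _ c)).mpr hg
  obtain rfl : n = r := by
    have e := (LinearEquiv.ofBijective _ (hb x hxU)).trans (LinearEquiv.ofBijective _ hgb).symm
    simpa using e.finrank_eq
  let T := U ⊓ O
  choose G hG using fun j => (LeffEt.bijective_linearCombination (hb.res (inf_le_left : T ≤ U))).2
    (res E (inf_le_right : T ≤ O) (g j))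
  let M : Matrix (Fin n) (Fin n) Γ(X, T) := Matrix.of fun i j => G j i
  have hgm : ∀ y (hy : y ∈ T) (j : Fin n), ger E y hy.2 (g j) =
      ∑ i, (M.map (X.presheaf.germ T y hy)) i j • ger E y hy.1 (b i) := fun y hy j => by
    rw [← ger_res E (inf_le_right : T ≤ O) y hy, ← hG, Fintype.linearCombination_apply]
    refine (LeffEt.ger_sum hy _ _).trans (Finset.sum_congr rfl fun i _ => ?_)
    rw [ger_res]
    rfl
  have hdet : IsUnit (X.presheaf.germ T x ⟨hxU, hx⟩ M.det) := by
    rw [RingHom.map_det, ← Matrix.isUnit_iff_isUnit_det]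
    have hmul : (fun c => ∑ j, c j • ger E x hx (g j)) = (fun c => ∑ i, c i • ger E x hxU (b i)) ∘
        (M.map (X.presheaf.germ T x ⟨hxU, hx⟩)).mulVec := funext fun c =>
      DetDegLib.comb_mulVec (fun i => ger E x hxU (b i)) (fun j => ger E x hx (g j)) _ (hgm x ⟨hxU, hx⟩) c
    have hbb : Function.Bijective fun c : Fin n → X.presheaf.stalk x => ∑ i, c i • ger E x hxU (b i) :=
      (congrArg Function.Bijective (funext fun c => (Fintype.linearCombination_apply _ _ c).symm)).mpr (hb x hxU)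
    have h' : Function.Bijective fun c : Fin n → X.presheaf.stalk x => ∑ j, c j • ger E x hx (g j) := hg
    rw [hmul, Function.Bijective.of_comp_iff' hbb] at h'
    exact Matrix.mulVec_surjective_iff_isUnit.1 h'.2
  refine ⟨(X.basicOpen M.det : Set X), fun y hy => ?_, (X.basicOpen _).2, (X.mem_basicOpen M.det x ⟨hxU, hx⟩).2 hdet⟩
  have hyT : y ∈ T := X.basicOpen_le _ hy
  change ∃ hy' : y ∈ O, DetDegLib.FrameAt E g hy'
  refine ⟨hyT.2, (DetDegLib.frameAt_res inf_le_right g hyT).1 (DetDegLib.frameAt_of_matrix (U := T) (fun i => res E inf_le_left (b i))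
    (fun j => res E inf_le_right (g j)) hyT (M.map (X.presheaf.germ T y hyT)) (fun j => ?_) ?_ ?_)⟩
  · refine (ger_res E _ y hyT _).trans ((hgm y hyT j).trans (Finset.sum_congr rfl fun i _ => ?_))
    exact congrArg (_ • ·) (ger_res E (inf_le_left : T ≤ U) y hyT (b i)).symm
  · refine (DetDegLib.frameAt_res inf_le_left b hyT).2 ?_
    exact (congrArg Function.Bijective (funext fun c => Fintype.linearCombination_apply _ _ c)).mp (hb y hyT.1)
  · have := (X.mem_basicOpen _ y hyT).1 hy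
    rw [RingHom.map_det] at this
    exact this

include hE in
/-- If the module is free over the local scheme at `s`, it has a frame over a neighbourhood. -/
theorem exists_frame_near (s : S) {r : ℕ}
    (e₀ : pb (pullback.fst f (S.fromSpecStalk s)) E ≅ FlatMod.freeMod (pullback f (S.fromSpecStalk s)) r) :
    ∃ O : S.Opens, s ∈ O ∧ HasFrame E (f ⁻¹ᵁ O) := by
  classical
  obtain ⟨W, hW, hsW, -⟩ := exists_isAffineOpen_mem_and_subset (X := S) (x := s) (U := ⊤) trivial
  let p := pullback.fst f (S.fromSpecStalk s)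
  let q := pullback.snd f (S.fromSpecStalk s)
  obtain ⟨t₀, ht₀⟩ := ProjFormLib.isFrame_freeMod (pullback f (S.fromSpecStalk s)) r
  let e : Fin r → Γ(pb p E, ⊤) := fun i => e₀.inv.app ⊤ (t₀ i)
  have he : IsFrame (pb p E) e := ht₀.map e₀.symm
  choose B hB hxB hBle using fun v : (f ⁻¹ᵁ W : X.Opens) =>
    exists_isAffineOpen_mem_and_subset (X := X) (U := f ⁻¹ᵁ W) v.2
  obtain ⟨cv, hcv⟩ := (f.isCompact_preimage hW.isCompact).elim_finite_subcover (fun v => (B v : Set X))
    (fun v => (B v).2) (fun v hv => Set.mem_iUnion.2 ⟨⟨v, hv⟩, hxB ⟨v, hv⟩⟩)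
  let V : cv → X.Opens := fun k => B k.1
  have hVW : ∀ k, V k ≤ f ⁻¹ᵁ W := fun k => hBle k.1
  have hcov : f ⁻¹ᵁ W ≤ iSup V := fun x hx => by
    obtain ⟨v, hv, hxv⟩ := Set.mem_iUnion₂.1 (hcv hx)
    exact Opens.mem_iSup.2 ⟨⟨v, hv⟩, hxv⟩
  have htop : ∀ O : X.Opens, p ⁻¹ᵁ O ≤ p ⁻¹ᵁ O ⊓ q ⁻¹ᵁ ⊤ := fun O => le_inf le_rfl fun z _ => trivial
  have hlift : ∀ (k : cv) (i : Fin r), ∃ t : Γ(S, W), s ∈ S.basicOpen t ∧ ∃ m : Γ(E, V k),
      puSecLE p E (le_refl (p ⁻¹ᵁ V k)) m =
        p.appLE (V k) (p ⁻¹ᵁ V k) le_rfl (f.appLE W (V k) (hVW k) t) • res (pb p E) le_top (e i) := by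
    intro k i
    obtain ⟨t, ht, m, hm⟩ := (local_piece (f := f) (E := E) hW hsW (hB k.1) (hVW k)).1 (res (pb p E) le_top (e i))
    refine ⟨t, ht, m, ?_⟩
    have h := congrArg (res (pb p E) (htop (V k))) hm
    rw [res_pu, res_smul, res_res] at h
    exact h.trans (congrArg (· • _) (congr($(p.appLE_map inf_le_left (homOfLE (htop (V k))).op) _)))
  choose t ht m hm using hlift
  let T₁ : Γ(S, W) := ∏ ki ∈ (Finset.univ : Finset (cv × Fin r)), t ki.1 ki.2
  let m' : ∀ (k : cv) (i : Fin r), Γ(E, V k) := fun k i =>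
    f.appLE W (V k) (hVW k) (∏ ki ∈ Finset.univ.erase (k, i), t ki.1 ki.2) • m k i
  have hm' : ∀ k i, puSecLE p E (le_refl (p ⁻¹ᵁ V k)) (m' k i) =
      p.appLE (V k) (p ⁻¹ᵁ V k) le_rfl (f.appLE W (V k) (hVW k) T₁) • res (pb p E) le_top (e i) := by
    intro k i
    show puSecLE p E _ (_ • m k i) = _
    rw [KFlatLib.puSecLE_smul, hm, smul_smul, ← map_mul, ← map_mul, Finset.prod_erase_mul _ _ (Finset.mem_univ _)]
  have hdiff : ∀ (k l : cv) (i : Fin r), ∃ u : Γ(S, W), s ∈ S.basicOpen u ∧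
      f.appLE W (V k ⊓ V l) (inf_le_left.trans (hVW k)) u •
        (res E inf_le_left (m' k i) - res E inf_le_right (m' l i)) = 0 := by
    intro k l i
    refine zero_near hW hsW _ (f.isQuasiSeparated_preimage hW.isQuasiSeparated _ _ (hVW k) (V k).2
      (hB k.1).isCompact (hVW l) (V l).2 (hB l.1).isCompact) _ fun U hU => ?_
    rw [map_sub, sub_eq_zero, pu_res, pu_res]
    have h1 := congrArg (res (pb p E) (hU.trans (p.preimage_mono inf_le_left))) (hm' k i)
    have h2 := congrArg (res (pb p E) (hU.trans (p.preimage_mono inf_le_right))) (hm' l i)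
    rw [res_pu, res_smul, res_res] at h1 h2
    refine h1.trans (Eq.trans ?_ h2.symm)
    congr 1
    have e1 : ∀ (k : cv) (hk : U ≤ p ⁻¹ᵁ V k),
        rX hk (p.appLE (V k) (p ⁻¹ᵁ V k) le_rfl (f.appLE W (V k) (hVW k) T₁)) =
          (p ≫ f).appLE W U (hk.trans (p.preimage_mono (hVW k))) T₁ := fun k hk => by
      refine (congr($(p.appLE_map le_rfl (homOfLE hk).op) _)).trans ?_
      exact congr($(Scheme.Hom.appLE_comp_appLE p f W (V k) U (hVW k) hk) T₁)
    exact (e1 k _).trans (e1 l _).symm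
  choose u hu hud using hdiff
  let T₂ : Γ(S, W) := ∏ x ∈ (Finset.univ : Finset (cv × cv × Fin r)), u x.1 x.2.1 x.2.2
  have hglue : ∀ i, ∃ g : Γ(E, f ⁻¹ᵁ W), ∀ k, res E (hVW k) g = f.appLE W (V k) (hVW k) T₂ • m' k i := by
    intro i
    refine glue E V hVW hcov _ fun k l => ?_
    rw [res_smul (inf_le_left : V k ⊓ V l ≤ V k) (f.appLE W (V k) (hVW k) T₂) (m' k i),
      res_smul (inf_le_right : V k ⊓ V l ≤ V l) (f.appLE W (V l) (hVW l) T₂) (m' l i)]
    change rX inf_le_left (f.appLE W (V k) (hVW k) T₂) • res E _ (m' k i) =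
      rX inf_le_right (f.appLE W (V l) (hVW l) T₂) • res E _ (m' l i)
    rw [rX_appLE, rX_appLE, ← sub_eq_zero, ← smul_sub]
    simp only [T₂]
    rw [← Finset.prod_erase_mul _ _ (Finset.mem_univ (k, l, i)), map_mul, mul_smul, hud, smul_zero]
  choose g hg using hglue
  obtain ⟨F, hFle, hF⟩ := exists_open_frame hE g
  haveI : Flat (S.fromSpecStalk s) := SteinLib.flat_fromSpecStalk s
  haveI : Flat p := MorphismProperty.pullback_fst _ _ ‹_›
  have hfib : ∀ x : X, f x = s → x ∈ F := by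
    intro x hxs
    have hxW : x ∈ f ⁻¹ᵁ W := by show f x ∈ W; rwa [hxs]
    refine (hF x).2 ⟨hxW, ?_⟩
    obtain ⟨z, hz, -⟩ := Scheme.Pullback.exists_preimage_pullback (f := f) (g := S.fromSpecStalk s) x
      (IsLocalRing.closedPoint (S.presheaf.stalk s)) (hxs.trans Scheme.fromSpecStalk_closedPoint.symm)
    subst hz
    obtain ⟨k, hk⟩ := Opens.mem_iSup.1 (hcov hxW)
    have hzk : z ∈ p ⁻¹ᵁ V k := hk
    let τ : Γ(pullback f (S.fromSpecStalk s), p ⁻¹ᵁ V k) :=
      p.appLE (V k) (p ⁻¹ᵁ V k) le_rfl (f.appLE W (V k) (hVW k) (T₂ * T₁))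
    have hgz : ∀ i, ger (pb p E) z (U := p ⁻¹ᵁ (f ⁻¹ᵁ W)) hxW (puSec p (g i)) =
        (pullback f (S.fromSpecStalk s)).presheaf.germ _ z hzk τ • ger (pb p E) z (U := ⊤) trivial (e i) := fun i => by
      have h1 : puSecLE p E (p.preimage_mono (hVW k)) (g i) = τ • res (pb p E) le_top (e i) := by
        rw [← pu_res p (hVW k) le_rfl, hg, KFlatLib.puSecLE_smul, hm', smul_smul, ← map_mul,
          ← map_mul]
      have h2 := congrArg (ger (pb p E) z hzk) h1
      rw [ger_smul, ger_res] at h2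
      exact ((ger_res (pb p E) (p.preimage_mono (hVW k)) z hzk (puSec p (g i))).symm).trans h2
    have hτ : IsUnit ((pullback f (S.fromSpecStalk s)).presheaf.germ _ z hzk τ) := by
      rw [← Scheme.mem_basicOpen]
      simp only [τ]
      rw [Scheme.basicOpen_appLE, Scheme.basicOpen_appLE]
      refine ⟨hzk, hk, ?_⟩
      show f (p z) ∈ S.basicOpen (T₂ * T₁)
      rw [hxs, Scheme.basicOpen_mul]
      exact ⟨mem_basicOpen_prod _ _ hsW fun x _ => hu _ _ _, mem_basicOpen_prod _ _ hsW fun x _ => ht _ _⟩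
    let O' := (pullback f (S.fromSpecStalk s)).presheaf.stalk z
    letI : Algebra (X.presheaf.stalk (p z)) O' := (p.stalkMap z).hom.toAlgebra
    haveI : Module.Flat (X.presheaf.stalk (p z)) O' := RingHom.flat_algebraMap_iff.1 (Flat.stalkMap p z)
    haveI : IsLocalHom (algebraMap (X.presheaf.stalk (p z)) O') := inferInstanceAs (IsLocalHom (p.stalkMap z).hom)
    haveI : Module.FaithfullyFlat (X.presheaf.stalk (p z)) O' := Module.FaithfullyFlat.of_flat_of_isLocalHom
    obtain ⟨Lz, hLz⟩ := CohCmpLib.exists_stalkPullEquiv p E z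
    let lc := Fintype.linearCombination (X.presheaf.stalk (p z)) fun i => ger E (p z) hxW (g i)
    let Φ := Fintype.linearCombination O' fun i => ger (pb p E) z (U := p ⁻¹ᵁ (f ⁻¹ᵁ W)) hxW (puSec p (g i))
    let π := TensorProduct.piScalarRight (X.presheaf.stalk (p z)) O' O' (Fin r)
    have hfac : ∀ w, Lz (lc.baseChange O' w) = Φ (π w) := by
      intro w
      induction w using TensorProduct.induction_on with
      | zero => simp
      | tmul a c =>
        rw [LinearMap.baseChange_tmul, TensorProduct.piScalarRight_apply, TensorProduct.piScalarRightHom_tmul]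
        simp only [lc, Φ, Fintype.linearCombination_apply, TensorProduct.tmul_sum, map_sum]
        refine Finset.sum_congr rfl fun i _ => ?_
        rw [← TensorProduct.smul_tmul, ← hLz (f ⁻¹ᵁ W) hxW (g i), ← map_smul, TensorProduct.smul_tmul', smul_eq_mul,
          mul_one]
      | add x y hx hy => simp only [map_add, hx, hy]
    have hΦ : Function.Bijective Φ := by
      let v := hτ.unit
      have hΦ' : ⇑Φ = ⇑(Fintype.linearCombination O' fun i => ger (pb p E) z (U := ⊤) trivial (e i)) ∘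
          fun c : Fin r → O' => fun i => c i * v.1 := funext fun c => by
        simp only [Φ, Function.comp_apply, Fintype.linearCombination_apply, hgz, smul_smul]
        rfl
      rw [hΦ']
      exact (he z trivial).comp (Equiv.piCongrRight fun _ => v.mulRight).bijective
    have hbc : Function.Bijective (lc.baseChange O') := by
      have : ⇑(lc.baseChange O') = ⇑Lz.symm ∘ ⇑Φ ∘ ⇑π := funext fun w => by
        rw [Function.comp_apply, Function.comp_apply, ← hfac, Lz.symm_apply_apply]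
      rw [this]
      exact Lz.symm.bijective.comp (hΦ.comp π.bijective)
    have hlc : Function.Bijective lc := (Module.FaithfullyFlat.lTensor_bijective_iff_bijective _ O' lc).1 hbc
    exact (congrArg Function.Bijective (funext fun c => Fintype.linearCombination_apply _ _ c)).mp hlc
  let C : Set S := f '' (F : Set X)ᶜ
  have hC : IsClosed C := f.isClosedMap _ F.2.isClosed_compl
  let D : S.Opens := W ⊓ ⟨Cᶜ, hC.isOpen_compl⟩
  have hDW : f ⁻¹ᵁ D ≤ f ⁻¹ᵁ W := f.preimage_mono inf_le_left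
  refine ⟨D, ⟨hsW, fun ⟨x, hx, hxs⟩ => hx (hfib x hxs)⟩, r, fun i => res E hDW (g i), fun y hy => ?_⟩
  have hyF : y ∈ F := not_not.1 fun hn => hy.2 ⟨y, hn, rfl⟩
  obtain ⟨hyW, hfr⟩ := (hF y).1 hyF
  simp only [ger_res]
  exact (congrArg Function.Bijective (funext fun c => Fintype.linearCombination_apply _ _ c)).mpr hfr

end CodimDescLib

end
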