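import Groth.Agent.CodimDescLib.Bij
import Groth.Agent.CodimDescLib.Spread
import Groth.Agent.CohBCLib.FreeNhd
import Groth.Agent.FinCovLib.Sec
import Groth.Agent.RefHullLib.Generic
import Groth.Prelude.Def_Pi1

/-!
# Descent of a bundle which is trivial in codimension one
-/

set_option autoImplicit false
set_option linter.style.haveILetI false
set_option linter.unusedSectionVars false
set_option backward.isDefEq.respectTransparency.types false
universe u

open CategoryTheory CategoryTheory.Limits AlgebraicGeometry TopologicalSpace Opposite TensorProduct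
open ProjFormLib (res ger IsFrame)
open LeffEt (HasFrame res_res res_rfl res_smul)
open KFlatLib (pb puSec)

noncomputable section

namespace CodimDescLib

variable {X S : Scheme.{u}} (f : X ⟶ S)

theorem surjective_of_app (hO : ∀ U : S.Opens, Function.Bijective (f.app U).hom) [IsProper f] :
    Function.Surjective f := by
  intro s
  by_contra hs
  let U : S.Opens := ⟨(Set.range f)ᶜ, f.isClosedMap.isClosed_range.isOpen_compl⟩
  have hU : f ⁻¹ᵁ U = ⊥ := eq_bot_iff.2 fun x hx => absurd ⟨x, rfl⟩ hx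
  haveI : Subsingleton Γ(X, f ⁻¹ᵁ U) := by rw [hU]; infer_instance
  haveI : Subsingleton Γ(S, U) := (hO U).1.subsingleton
  have hsU : s ∈ U := hs
  have h01 := congrArg (S.presheaf.germ U s hsU) (Subsingleton.elim (0 : Γ(S, U)) 1)
  rw [map_zero, map_one] at h01
  exact zero_ne_one h01

variable {f}

/-- Frames of the direct image give an isomorphism of the counit. -/
theorem isIso_counit_of_frames (E : X.Modules)
    (h : ∀ s : S, ∃ (O : S.Opens) (n : ℕ) (g : Fin n → Γ(G f E, O)), s ∈ O ∧ IsFrame (G f E) g ∧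
      IsFrame E (U := f ⁻¹ᵁ O) fun i => (show Γ(E, f ⁻¹ᵁ O) from g i)) :
    IsIso ((Scheme.Modules.pullbackPushforwardAdjunction f).counit.app E) := by
  let c := (Scheme.Modules.pullbackPushforwardAdjunction f).counit.app E
  refine KFlatLib.isIso_of_stalks c fun x => (ConcreteCategory.isIso_iff_bijective _).mpr ?_
  obtain ⟨O, n, g, hx, hg, hgE⟩ := h (f x)
  let φ := ((DerSch.stalkFunctor X x).map c).hom
  have h1 := ProjFormLib.IsFrame.pull f hg x hx
  refine (Function.Bijective.of_comp_iff φ h1).1 ?_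
  have hc : ∀ i, c.app (f ⁻¹ᵁ O) (puSec f (g i)) = (show Γ(E, f ⁻¹ᵁ O) from g i) := fun i =>
    congr($((Scheme.Modules.pullbackPushforwardAdjunction f).right_triangle_components E).app O (g i))
  have e : ⇑φ ∘ ⇑(Fintype.linearCombination (X.presheaf.stalk x)
      fun i => ger (pb f (G f E)) x hx (puSec f (g i))) = ⇑(Fintype.linearCombination (X.presheaf.stalk x)
      fun i => ger E x (U := f ⁻¹ᵁ O) hx (show Γ(E, f ⁻¹ᵁ O) from g i)) := funext fun a => by
    simp only [Function.comp_apply, Fintype.linearCombination_apply]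
    refine (map_sum φ _ _).trans (Finset.sum_congr rfl fun i _ => ?_)
    refine (φ.map_smul _ _).trans (congrArg (a i • ·) ?_)
    exact (ProjFormLib.ger_map c x hx _).trans (congrArg (ger E x (U := f ⁻¹ᵁ O) hx) (hc i))
  exact e.symm ▸ hgE x hx

theorem main [Flat f] [IsProper f] (hO : ∀ U : S.Opens, Function.Bijective (f.app U).hom) [IsLocallyNoetherian S]
    (hS : Pi1.IsNormalScheme S) (E : X.Modules) (hE : FlatMod.IsFinLocFree E)
    (h1 : ∀ s : S, ringKrullDim (S.presheaf.stalk s) ≤ 1 → ∃ r : ℕ,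
      Nonempty ((Scheme.Modules.pullback (pullback.fst f (S.fromSpecStalk s))).obj E ≅
        FlatMod.freeMod (pullback f (S.fromSpecStalk s)) r)) :
    ∃ M : S.Modules, FlatMod.IsFinLocFree M ∧ Nonempty (E ≅ (Scheme.Modules.pullback f).obj M) := by
  classical
  haveI : Coh.IsQCoh E := (LocSuppLib.isCoh_of_isFinLocFree hE).1
  have hbad : BadDepth f E := fun s hs => by
    haveI := (hS s).1
    haveI := (hS s).2
    refine RefHullLib.two_le_depth_normal ?_
    by_contra hlt
    have hd : ringKrullDim (S.presheaf.stalk s) ≤ 1 := by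
      refine le_of_not_gt fun hgt => hlt ?_
      rcases hk : ringKrullDim (S.presheaf.stalk s) with _ | n
      · rw [hk] at hgt; exact absurd hgt (not_lt_bot (a := (1 : WithBot ℕ∞)))
      · rw [hk] at hgt
        exact WithBot.coe_le_coe.2 (Order.add_one_le_of_lt (WithBot.coe_lt_coe.1 hgt))
    obtain ⟨r, ⟨e⟩⟩ := h1 s hd
    obtain ⟨O, hsO, hf⟩ := exists_frame_near (f := f) hE s e
    exact hs O hsO hf
  have hsurj := surjective_of_app f hO
  haveI hGq : Coh.IsQCoh (G f E) := QCohLib.isQCoh_pushforward f E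
  have hGfree : FlatMod.IsFinLocFree (G f E) := by
    intro s
    obtain ⟨W, hW, hsW, -⟩ := exists_isAffineOpen_mem_and_subset (X := S) (x := s) (U := ⊤) trivial
    haveI : IsNoetherianRing Γ(S, W) := IsLocallyNoetherian.component_noetherian ⟨W, hW⟩
    choose V hV hxV hVle using fun v : (f ⁻¹ᵁ W : X.Opens) =>
      exists_isAffineOpen_mem_and_subset (X := X) (U := f ⁻¹ᵁ W) v.2
    obtain ⟨cv, hcv⟩ := (f.isCompact_preimage hW.isCompact).elim_finite_subcover (fun v => (V v : Set X))
      (fun v => (V v).2) (fun v hv => Set.mem_iUnion.2 ⟨⟨v, hv⟩, hxV ⟨v, hv⟩⟩)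
    let B : cv → Type u := fun k => Γ(X, V k.1)
    letI : ∀ k : cv, Algebra Γ(S, W) (B k) := fun k => (f.appLE W (V k.1) (hVle k.1)).hom.toAlgebra
    have hflat : ∀ k, Module.Flat Γ(S, W) (B k) := fun k =>
      RingHom.flat_algebraMap_iff.1 (f.flat_appLE hW (hV k.1) (hVle k.1))
    have hcov : ∀ q : PrimeSpectrum Γ(S, W), ∃ k, q ∈ Set.range (PrimeSpectrum.comap (algebraMap Γ(S, W) (B k))) := by
      intro q
      obtain ⟨x, hx⟩ := hsurj (hW.fromSpec q)
      have hxW : x ∈ f ⁻¹ᵁ W := by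
        show f x ∈ W
        rw [hx]; exact hW.range_fromSpec.le ⟨q, rfl⟩
      obtain ⟨v, hv, hxv⟩ := Set.mem_iUnion₂.1 (hcv hxW)
      refine ⟨⟨v, hv⟩, (hV v).primeIdealOf ⟨x, hxv⟩, hW.fromSpec.isOpenEmbedding.injective ?_⟩
      refine (congrArg hW.fromSpec (IsAffineOpen.comap_primeIdealOf_appLE W hW (V v) (hV v) (hVle v) hxv)).trans ?_
      rw [hW.fromSpec_primeIdealOf]
      exact hx
    have hB : ∀ k : cv, Module.Finite (B k) (B k ⊗[Γ(S, W)] Γ(G f E, W)) ∧
        Module.Flat Γ(S, W) (B k ⊗[Γ(S, W)] Γ(G f E, W)) := by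
      intro k
      letI := Module.compHom Γ(E, V k.1) (f.appLE W (V k.1) (hVle k.1)).hom
      letI : Algebra Γ(S, W) Γ(X, V k.1) := (f.appLE W (V k.1) (hVle k.1)).hom.toAlgebra
      haveI : IsScalarTower Γ(S, W) Γ(X, V k.1) Γ(E, V k.1) := IsScalarTower.of_algebraMap_smul fun _ _ => rfl
      let e := LinearEquiv.ofBijective _ (bijective_piece hW hE hO hbad (hV k.1) (hVle k.1))
      haveI : Module.Finite Γ(X, V k.1) Γ(E, V k.1) :=
        QCohLib.finite_of_isFT (LocSuppLib.isCoh_of_isFinLocFree hE).2 (hV k.1)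
      haveI := (regPair_piece hW hE (a := 1) (b := 1)
        (by simp [RingTheory.Sequence.isWeaklyRegular_cons_iff, IsSMulRegular.one]) (hV k.1) (hVle k.1)).1
      exact ⟨Module.Finite.equiv e.symm, Module.Flat.of_linearEquiv (e.restrictScalars Γ(S, W))⟩
    haveI := finite_of_family B hflat hcov Γ(G f E, W) fun k => (hB k).1
    haveI := flat_of_family B hflat hcov Γ(G f E, W) fun k => (hB k).2
    haveI : Module.FinitePresentation Γ(S, W) Γ(G f E, W) := Module.finitePresentation_of_finite _ _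
    haveI : Module.Projective Γ(S, W) Γ(G f E, W) := Module.Flat.projective_of_finitePresentation
    obtain ⟨U, hU, ⟨e⟩⟩ := CohBCLib.exists_free_nhd hW (G f E) (hW.primeIdealOf ⟨s, hsW⟩) rfl
    rw [hW.fromSpec_primeIdealOf] at hU
    exact ⟨U, _, hU, ⟨e⟩⟩
  refine ⟨G f E, hGfree, ⟨(@asIso _ _ _ _ _ (isIso_counit_of_frames E fun s => ?_)).symm⟩⟩
  obtain ⟨O, n, g, hsO, hg⟩ := ProjFormLib.exists_frame hGfree s
  obtain ⟨D, hD, hsD, hDO⟩ := exists_isAffineOpen_mem_and_subset (X := S) (x := s) (U := O) hsO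
  let g' : Fin n → Γ(G f E, D) := fun i => res (G f E) hDO (g i)
  have hg' : IsFrame (G f E) g' := hg.res hDO
  refine ⟨D, n, g', hsD, hg', FinCovLib.isFrame_of_bases _ fun V hV hVD => ?_⟩
  letI := Module.compHom Γ(E, V) (f.appLE D V hVD).hom
  letI : Algebra Γ(S, D) Γ(X, V) := (f.appLE D V hVD).hom.toAlgebra
  haveI : IsScalarTower Γ(S, D) Γ(X, V) Γ(E, V) := IsScalarTower.of_algebraMap_smul fun _ _ => rfl
  let e := LinearEquiv.ofBijective _ (bijective_piece hD hE hO hbad hV hVD)
  let b := ((LeffEt.bas hg').baseChange Γ(X, V)).map e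
  have hb : ∀ i, b i = res E hVD (show Γ(E, f ⁻¹ᵁ D) from g' i) := fun i => by
    rw [Module.Basis.map_apply, Module.Basis.baseChange_apply, LeffEt.bas_apply]
    exact (LinearMap.liftBaseChange_tmul Γ(X, V) (rho (f := f) (E := E) D hVD) 1 (g' i)).trans (one_smul _ _)
  refine (congrArg Function.Bijective (funext fun c => ?_)).mpr b.equivFun.symm.bijective
  rw [Module.Basis.equivFun_symm_apply]
  exact Finset.sum_congr rfl fun i _ => by rw [hb]

end CodimDescLib

end
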