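import Mathlib
import Groth.Prelude.Def_Coh
import Groth.Prelude.Def_FlatMod2
import Groth.Agent.CodimDescLib.Alg
import Groth.Agent.LeffEtLib.Frames
import Groth.Agent.QCohLib.QcqsSections
import Groth.Agent.CohBCLib.Cons

/-!
# Sections over preimages of affine opens
-/

set_option autoImplicit false
set_option linter.style.haveILetI false
set_option linter.unusedSectionVars false
set_option backward.isDefEq.respectTransparency.types false
universe u

open CategoryTheory CategoryTheory.Limits AlgebraicGeometry TopologicalSpace Opposite TensorProduct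
open ProjFormLib (res ger IsFrame)
open LeffEt (HasFrame res_res res_rfl res_smul res_sum res_add res_zero)

noncomputable section

namespace CodimDescLib

variable {X S : Scheme.{u}}

/-- Restriction of functions. -/
abbrev rX {U V : X.Opens} (h : V ≤ U) (r : Γ(X, U)) : Γ(X, V) := X.presheaf.map (homOfLE h).op r

theorem rX_rX {U V W : X.Opens} (h : V ≤ U) (h' : W ≤ V) (r : Γ(X, U)) : rX h' (rX h r) = rX (h'.trans h) r := by
  show (X.presheaf.map _ ≫ X.presheaf.map _) r = _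
  rw [← X.presheaf.map_comp]
  rfl

theorem rX_rfl {U : X.Opens} (r : Γ(X, U)) : rX le_rfl r = r := congr($(X.presheaf.map_id (op U)) r)

theorem res_sub {M : X.Modules} {U V : X.Opens} (h : V ≤ U) (s t : Γ(M, U)) :
    res M h (s - t) = res M h s - res M h t := map_sub (M.presheaf.map (homOfLE h).op).hom s t

theorem glue (M : X.Modules) {ι : Type*} (U : ι → X.Opens) {W : X.Opens} (hle : ∀ i, U i ≤ W) (hcov : W ≤ iSup U)
    (s : ∀ i, Γ(M, U i))
    (h : ∀ i j, res M (inf_le_left : U i ⊓ U j ≤ U i) (s i) = res M (inf_le_right : U i ⊓ U j ≤ U j) (s j)) :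
    ∃ t : Γ(M, W), ∀ i, res M (hle i) t = s i := by
  obtain ⟨t, ht, -⟩ := TopCat.Sheaf.existsUnique_gluing'
    ((QCohLib.toAbF X).obj M : TopCat.Sheaf AddCommGrpCat.{u} X.toTopCat) U W (fun i => homOfLE (hle i)) hcov s
    (fun i j => h i j)
  exact ⟨t, ht⟩

theorem ext_cover (M : X.Modules) {ι : Type*} (U : ι → X.Opens) {W : X.Opens} (hle : ∀ i, U i ≤ W) (hcov : W ≤ iSup U)
    (s t : Γ(M, W)) (h : ∀ i, res M (hle i) s = res M (hle i) t) : s = t :=
  TopCat.Sheaf.eq_of_locally_eq' ((QCohLib.toAbF X).obj M : TopCat.Sheaf AddCommGrpCat.{u} X.toTopCat) U W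
    (fun i => homOfLE (hle i)) hcov s t h

theorem zero_res (M : X.Modules) [Coh.IsQCoh M] {W O : X.Opens} (hW : IsCompact (W : Set X)) (a : Γ(X, W))
    (hO : O = W ⊓ X.basicOpen a) (hle : O ≤ W) (t : Γ(M, W)) (ht : res M hle t = 0) : ∃ n : ℕ, a ^ n • t = 0 := by
  subst hO
  obtain ⟨n, hn⟩ := QCohLib.exists_pow_smul_eq_zero (M := M) a W hW le_rfl t ht
  refine ⟨n, ?_⟩
  have : rX le_rfl a = a := rX_rfl a
  change (rX le_rfl a) ^ n • t = 0 at hn
  rwa [this] at hn

theorem extend_res (M : X.Modules) [Coh.IsQCoh M] {W O : X.Opens} (hW : IsCompact (W : Set X))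
    (hqs : IsQuasiSeparated (W : Set X)) (a : Γ(X, W)) (hO : O = W ⊓ X.basicOpen a) (hle : O ≤ W) (s : Γ(M, O)) :
    ∃ (n : ℕ) (t : Γ(M, W)), res M hle t = (rX hle a) ^ n • s := by
  subst hO
  exact QCohLib.exists_pow_smul_extend (M := M) hqs a W hW le_rfl s

theorem isUnit_rX {W O : X.Opens} (a : Γ(X, W)) (hle : O ≤ W) (hO : O ≤ X.basicOpen a) : IsUnit (rX hle a) := by
  have h1 := (RingedSpace.isUnit_res_basicOpen X.toRingedSpace a).map (X.presheaf.map (homOfLE hO).op).hom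
  have h2 : rX hO (rX (X.basicOpen_le a) a) = rX hle a := rX_rX _ _ _
  exact h2 ▸ h1

theorem zero_fun {W O : X.Opens} (hW : IsCompact (W : Set X)) (a : Γ(X, W))
    (hO : O = W ⊓ X.basicOpen a) (hle : O ≤ W) (t : Γ(X, W)) (ht : rX hle t = 0) : ∃ n : ℕ, a ^ n * t = 0 :=
  haveI : Coh.IsQCoh (Coh.structureModule X) := QCohLib.isQCoh_unit
  zero_res (Coh.structureModule X) hW a hO hle t ht

theorem extend_fun {W O : X.Opens} (hW : IsCompact (W : Set X)) (hqs : IsQuasiSeparated (W : Set X))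
    (a : Γ(X, W)) (hO : O = W ⊓ X.basicOpen a) (hle : O ≤ W) (s : Γ(X, O)) :
    ∃ (n : ℕ) (t : Γ(X, W)), rX hle t = (rX hle a) ^ n * s :=
  haveI : Coh.IsQCoh (Coh.structureModule X) := QCohLib.isQCoh_unit
  extend_res (Coh.structureModule X) hW hqs a hO hle s

variable (f : X ⟶ S) (E : X.Modules)

/-- The direct image of `E`. -/
abbrev G : S.Modules := (Scheme.Modules.pushforward f).obj E

variable {f E}

theorem preimage_eq {W : S.Opens} (c : Γ(S, W)) :
    f ⁻¹ᵁ S.basicOpen c = f ⁻¹ᵁ W ⊓ X.basicOpen (f.app W c) := by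
  rw [← f.preimage_basicOpen c, inf_eq_right.2 (f.preimage_mono (S.basicOpen_le c))]

theorem inf_preimage_eq {W : S.Opens} (c : Γ(S, W)) {V : X.Opens} (hle : V ≤ f ⁻¹ᵁ W) :
    V ⊓ f ⁻¹ᵁ S.basicOpen c = V ⊓ X.basicOpen (f.appLE W V hle c) := by
  have : X.basicOpen (f.appLE W V hle c) = V ⊓ X.basicOpen (f.app W c) :=
    X.basicOpen_res (f.app W c) (homOfLE hle).op
  rw [this, ← f.preimage_basicOpen c, ← inf_assoc, inf_idem]

theorem rX_appLE {W : S.Opens} {V V' : X.Opens} (hle : V ≤ f ⁻¹ᵁ W) (h : V' ≤ V) (c : Γ(S, W)) :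
    rX h (f.appLE W V hle c) = f.appLE W V' (h.trans hle) c :=
  congr($(f.appLE_map hle (homOfLE h).op) c)

theorem appLE_eq {W : S.Opens} {V : X.Opens} (hle : V ≤ f ⁻¹ᵁ W) (c : Γ(S, W)) :
    f.appLE W V hle c = rX hle (f.app W c) := rfl

/-- Restriction to an affine piece. -/
def rho (W : S.Opens) {V : X.Opens} (hle : V ≤ f ⁻¹ᵁ W) :
    letI := Module.compHom Γ(E, V) (f.appLE W V hle).hom
    Γ(G f E, W) →ₗ[Γ(S, W)] Γ(E, V) :=
  letI := Module.compHom Γ(E, V) (f.appLE W V hle).hom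
  { toFun := fun n => res E hle (show Γ(E, f ⁻¹ᵁ W) from n)
    map_add' := fun a b => res_add hle _ _
    map_smul' := fun r n => res_smul hle (f.app W r) (show Γ(E, f ⁻¹ᵁ W) from n) }

variable [QuasiCompact f] [QuasiSeparated f] (hO : ∀ U : S.Opens, Function.Bijective (f.app U).hom)
  [Coh.IsQCoh E] {W : S.Opens} (hW : IsAffineOpen W)

include hW hO in
/-- Near a frame the sections are combinations of finitely many lifted ones. -/
theorem exists_lifts (c : Γ(S, W)) (hc : HasFrame E (f ⁻¹ᵁ S.basicOpen c)) :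
    ∃ (r : ℕ) (g : Fin r → Γ(E, f ⁻¹ᵁ S.basicOpen c)) (m : ℕ) (n : Fin r → Γ(G f E, W)), IsFrame E g ∧
      (∀ i, res E (f.preimage_mono (S.basicOpen_le c)) (show Γ(E, f ⁻¹ᵁ W) from n i) =
        (rX (f.preimage_mono (S.basicOpen_le c)) (f.app W c)) ^ m • g i) ∧
      ∀ z : Γ(G f E, W), ∃ (K : ℕ) (q : Fin r → Γ(S, W)), c ^ K • z = ∑ i, q i • n i := by
  classical
  obtain ⟨r, g, hg⟩ := hc
  have hcp := f.isCompact_preimage hW.isCompact
  have hqs := f.isQuasiSeparated_preimage hW.isQuasiSeparated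
  let hle := f.preimage_mono (S.basicOpen_le c)
  let a : Γ(X, f ⁻¹ᵁ W) := f.app W c
  choose m' n' hn' using fun i => extend_res E hcp hqs a (preimage_eq c) hle (g i)
  let m := Finset.univ.sup m'
  let n : Fin r → Γ(G f E, W) := fun i => (show Γ(E, f ⁻¹ᵁ W) from a ^ (m - m' i) • n' i)
  have hn : ∀ i, res E hle (show Γ(E, f ⁻¹ᵁ W) from n i) = (rX hle a) ^ m • g i := fun i => by
    show res E hle (a ^ (m - m' i) • n' i) = _
    rw [res_smul, hn', smul_smul, map_pow, ← pow_add,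
      Nat.sub_add_cancel (Finset.le_sup (f := m') (Finset.mem_univ i))]
  refine ⟨r, g, m, n, hg, hn, fun z => ?_⟩
  obtain ⟨o, ho⟩ := (LeffEt.bijective_linearCombination hg).2 (res E hle (show Γ(E, f ⁻¹ᵁ W) from z))
  choose q₀ hq₀ using fun i => (hO (S.basicOpen c)).2 (o i)
  have hS : S.basicOpen c = W ⊓ S.basicOpen c := (inf_eq_right.2 (S.basicOpen_le c)).symm
  choose k' q' hq' using fun i => extend_fun hW.isCompact hW.isQuasiSeparated c hS (S.basicOpen_le c) (q₀ i)
  let k := Finset.univ.sup k'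
  let q : Fin r → Γ(S, W) := fun i => c ^ (k - k' i) * q' i
  have hq : ∀ i, rX hle (f.app W (q i)) = (rX hle a) ^ k * o i := fun i => by
    have h1 : rX (S.basicOpen_le c) (q i) = (rX (S.basicOpen_le c) c) ^ k * q₀ i := by
      show rX (S.basicOpen_le c) (c ^ (k - k' i) * q' i) = _
      unfold rX
      rw [map_mul, map_pow]
      refine (congrArg (_ * ·) (hq' i)).trans ?_
      rw [← mul_assoc, ← pow_add, Nat.sub_add_cancel (Finset.le_sup (f := k') (Finset.mem_univ i))]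
    have h2 : ∀ y : Γ(S, W), f.app (S.basicOpen c) (rX (S.basicOpen_le c) y) = rX hle (f.app W y) := fun y =>
      congr($(f.naturality (homOfLE (S.basicOpen_le c)).op) y)
    rw [← h2, h1, map_mul, map_pow, h2]
    exact congrArg (_ * ·) (hq₀ i)
  have h0 : res E hle ((f.app W c) ^ (k + m) • (show Γ(E, f ⁻¹ᵁ W) from z) -
      ∑ i, f.app W (q i) • (show Γ(E, f ⁻¹ᵁ W) from n i)) = 0 := by
    rw [res_sub, res_smul, map_pow, res_sum, ← ho, Fintype.linearCombination_apply, Finset.smul_sum,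
      sub_eq_zero]
    refine Finset.sum_congr rfl fun i _ => ?_
    rw [res_smul, hn, smul_smul, smul_smul]
    change _ = (rX hle (f.app W (q i)) * _) • g i
    rw [hq]
    congr 1
    ring
  obtain ⟨l, hl⟩ := zero_res E hcp a (preimage_eq c) hle _ h0
  refine ⟨l + (k + m), fun i => c ^ l * q i, ?_⟩
  show (f.app W (c ^ (l + (k + m)))) • (show Γ(E, f ⁻¹ᵁ W) from z) =
    ∑ i, f.app W (c ^ l * q i) • (show Γ(E, f ⁻¹ᵁ W) from n i)
  rw [smul_sub, sub_eq_zero] at hl
  simp only [map_pow, map_mul, pow_add, mul_smul, ← Finset.smul_sum] at hl ⊢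
  exact hl

end CodimDescLib

end
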